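import Cfsg.Agent.Lib.KGroups.TwoRankThree.Basic
import Cfsg.Prelude.Def_Classical

/-!
# Unitary groups in characteristic two

The isometries `1 + A H Aᵀ` for isotropic orthogonal columns `A` with entries in the prime field.
-/

set_option autoImplicit false

namespace CfsgLib.KGroups.TwoRankThree

open Matrix

variable {F : Type*} [Field F] [Fintype F] [CharP F 2]

theorem pow_q_add {q : ℕ} (hF : Fintype.card F = q ^ 2) (x y : F) : (x + y) ^ q = x ^ q + y ^ q := by
  obtain ⟨n, -, hn⟩ := FiniteField.card F 2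
  obtain ⟨g, -, hg⟩ := (Nat.dvd_prime_pow Nat.prime_two).1 (hn ▸ hF ▸ dvd_pow_self q two_ne_zero)
  subst hg
  exact add_pow_expChar_pow x y 2 g

theorem pow_q_q {q : ℕ} (hF : Fintype.card F = q ^ 2) (x : F) : (x ^ q) ^ q = x := by
  rw [← pow_mul, ← sq, ← hF, FiniteField.pow_card]

theorem two_le_q {q : ℕ} (hF : Fintype.card F = q ^ 2) : 2 ≤ q := by
  have h := Fintype.one_lt_card (α := F)
  rw [hF] at h
  by_contra hq
  have := Nat.pow_le_pow_left (show q ≤ 1 by omega) 2
  omega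

/-- The field fixed by the conjugation. -/
def fixF {q : ℕ} (hF : Fintype.card F = q ^ 2) : AddSubgroup F where
  carrier := {x | x ^ q = x}
  zero_mem' := zero_pow (by have := two_le_q hF; omega)
  add_mem' {x y} hx hy := by
    show (x + y) ^ q = x + y
    rw [pow_q_add hF, hx, hy]
  neg_mem' {x} hx := by
    show (-x) ^ q = -x
    rw [CharTwo.neg_eq]; exact hx

theorem le_card_fixF {q : ℕ} (hF : Fintype.card F = q ^ 2) : q ≤ Nat.card (fixF hF) := by
  let f : F →+ F := AddMonoidHom.mk' (fun x => x + x ^ q) fun x y => by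
    rw [pow_q_add hF]; ring
  have hk : f.ker ≤ fixF hF := fun x hx => by
    have : x + x ^ q = 0 := hx
    exact (CharTwo.add_eq_zero.1 this).symm
  have hr : f.range ≤ fixF hF := by
    rintro _ ⟨x, rfl⟩
    show (x + x ^ q) ^ q = x + x ^ q
    rw [pow_q_add hF, pow_q_q hF, add_comm]
  have h := AddSubgroup.card_mul_index f.ker
  rw [AddSubgroup.index_ker, Nat.card_eq_fintype_card (α := F), hF] at h
  have h1 := Nat.mul_le_mul (AddSubgroup.card_le_of_le hk) (AddSubgroup.card_le_of_le hr)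
  rw [h, ← sq] at h1
  exact (Nat.pow_le_pow_iff_left two_ne_zero).1 h1

theorem exists_norm_one {q : ℕ} (hF : Fintype.card F = q ^ 2) :
    ∃ c : Fˣ, c ≠ 1 ∧ c ^ 2 ≠ 1 ∧ (c : F) * (c : F) ^ q = 1 := by
  classical
  obtain ⟨g, hg⟩ := IsCyclic.exists_generator (α := Fˣ)
  have ho : orderOf g = q ^ 2 - 1 := by
    rw [orderOf_eq_card_of_forall_mem_zpowers hg, Nat.card_eq_fintype_card, Fintype.card_units, hF]
  have hq := two_le_q hF
  have hne : g ^ (q - 1) ≠ 1 := fun h => by
    have h1 := Nat.le_of_dvd (by omega) (orderOf_dvd_of_pow_eq_one h)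
    have : q < q ^ 2 := by nlinarith
    omega
  have hsq : (g ^ (q - 1)) ^ 2 ≠ 1 := fun h => hne (Units.ext (CharTwo.sq_inj.1 (by
    rw [Units.val_one, one_pow, ← Units.val_pow_eq_pow_val, h, Units.val_one])))
  refine ⟨g ^ (q - 1), hne, hsq, ?_⟩
  have h2 : (g ^ (q - 1)) * (g ^ (q - 1)) ^ q = 1 := by
    rw [← pow_mul, ← pow_add]
    refine orderOf_dvd_iff_pow_eq_one.1 (ho ▸ dvd_of_eq ?_)
    zify [show 1 ≤ q by omega, show 1 ≤ q ^ 2 by nlinarith]
    ring
  simpa using congrArg Units.val h2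

variable {n q : ℕ}

/-- A matrix `M` with `M Mᵀ' = 1` preserves the standard Hermitian form. -/
theorem mem_SU_of (hF : Fintype.card F = q ^ 2) (M : Matrix.SpecialLinearGroup (Fin n) F)
    (h : (M : Matrix (Fin n) (Fin n) F)ᵀ * (M : Matrix (Fin n) (Fin n) F).map (fun x => x ^ q) = 1) :
    M ∈ Cfsg.SU n F q := by
  intro u v
  have hσ : ∀ w, (fun i => ((M : Matrix (Fin n) (Fin n) F) *ᵥ w) i ^ q) =
      (M : Matrix (Fin n) (Fin n) F).map (fun x => x ^ q) *ᵥ (fun i => w i ^ q) := by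
    intro w
    funext i
    simp only [mulVec, dotProduct, Matrix.map_apply]
    obtain ⟨k, -, hk⟩ := FiniteField.card F 2
    obtain ⟨g, -, hg⟩ := (Nat.dvd_prime_pow Nat.prime_two).1 (hk ▸ hF ▸ dvd_pow_self q two_ne_zero)
    subst hg
    rw [sum_pow_char_pow]
    simp only [mul_pow]
  show ∑ i, ((M : Matrix (Fin n) (Fin n) F) *ᵥ u) i * ((M : Matrix (Fin n) (Fin n) F) *ᵥ v) i ^ q =
    ∑ i, u i * v i ^ q
  show _ ⬝ᵥ _ = u ⬝ᵥ fun i => v i ^ q
  rw [show (fun i => ((M : Matrix (Fin n) (Fin n) F) *ᵥ v) i ^ q) = _ from hσ v, ← vecMul_transpose,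
    ← dotProduct_mulVec, mulVec_mulVec, h, one_mulVec]

/-- The diagonal isometry at two places. -/
theorem exists_torus (hF : Fintype.card F = q ^ 2) {a b : Fin n} (hab : a ≠ b) (c : Fˣ)
    (hc : (c : F) * (c : F) ^ q = 1) :
    ∃ t : Cfsg.SU n F q, ((t : Matrix.SpecialLinearGroup (Fin n) F) : Matrix (Fin n) (Fin n) F) =
      diagonal (fun i => if i = a then (c : F) else if i = b then (c⁻¹ : Fˣ) else 1) := by
  set d : Fin n → F := fun i => if i = a then (c : F) else if i = b then (c⁻¹ : Fˣ) else 1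
  have hdet : (diagonal d).det = 1 := by
    rw [det_diagonal, Fintype.prod_eq_mul a b hab (fun i hi => by simp [d, hi.1, hi.2])]
    simp [d, hab.symm]
  refine ⟨⟨⟨diagonal d, hdet⟩, mem_SU_of hF _ ?_⟩, rfl⟩
  show (diagonal d)ᵀ * (diagonal d).map (fun x => x ^ q) = 1
  rw [diagonal_transpose, diagonal_map (f := fun x : F => x ^ q) (zero_pow (by have := two_le_q hF; omega)),
    diagonal_mul_diagonal, ← diagonal_one]
  congr 1
  funext i
  by_cases h1 : i = a
  · simp only [d, if_pos h1]; exact hc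
  by_cases h2 : i = b
  · simp only [d, if_neg h1, if_pos h2]
    rw [Units.val_inv_eq_inv_val, inv_pow, ← mul_inv, hc, inv_one]
  · simp [d, h1, h2]

/-- The general unitary construction. -/
theorem psu_of {k : ℕ} (hF : Fintype.card F = q ^ 2) (A : Matrix (Fin n) (Fin k) F)
    (hA : ∀ i j, A i j ^ q = A i j) (hAA : Aᵀ * A = 0)
    (H : AddSubgroup (Matrix (Fin k) (Fin k) F)) (hH : ∀ X ∈ H, X.map (fun x => x ^ q) = Xᵀ)
    (hcard : 8 ≤ Nat.card H)
    (hsep : ∀ X ∈ H, (∀ a b l : Fin n, a ≠ b → l ≠ a → (A * X * Aᵀ) a l = 0) → X = 0) :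
    Cfsg.PRankAtLeast 2 3 (Cfsg.PSU n F q) := by
  have hq := two_le_q hF
  have hmul : ∀ X Y : Matrix (Fin k) (Fin k) F,
      (1 + A * X * Aᵀ) * (1 + A * Y * Aᵀ) = 1 + A * (X + Y) * Aᵀ := by
    intro X Y
    have : A * X * Aᵀ * (A * Y * Aᵀ) = 0 := by
      rw [show A * X * Aᵀ * (A * Y * Aᵀ) = A * X * (Aᵀ * A) * Y * Aᵀ by
        simp only [Matrix.mul_assoc], hAA]
      simp
    rw [Matrix.add_mul, Matrix.mul_add, Matrix.mul_add, this, Matrix.mul_add, Matrix.add_mul,
      Matrix.one_mul, Matrix.one_mul, Matrix.mul_one, add_zero, add_assoc, add_comm (A * Y * Aᵀ)]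
  have hdet : ∀ X : Matrix (Fin k) (Fin k) F, (1 + A * X * Aᵀ).det = 1 := by
    intro X
    rw [Matrix.mul_assoc, det_one_add_mul_comm, Matrix.mul_assoc, hAA, Matrix.mul_zero, add_zero,
      det_one]
  have hmem : ∀ X : H, (⟨_, hdet X.1⟩ : Matrix.SpecialLinearGroup (Fin n) F) ∈ Cfsg.SU n F q := by
    intro X
    refine mem_SU_of hF _ ?_
    show (1 + A * X.1 * Aᵀ)ᵀ * (1 + A * X.1 * Aᵀ).map (fun x => x ^ q) = 1
    let σ : F →+* F :=
      { toFun := fun x => x ^ q
        map_one' := one_pow q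
        map_mul' := fun x y => mul_pow x y q
        map_zero' := zero_pow (by omega)
        map_add' := pow_q_add hF }
    have hAσ : A.map σ = A := Matrix.ext hA
    have hAσ' : Aᵀ.map σ = Aᵀ := Matrix.ext fun i j => hA j i
    have e : (1 + A * X.1 * Aᵀ).map (fun x => x ^ q) = σ.mapMatrix (1 + A * X.1 * Aᵀ) := rfl
    rw [e, map_add, map_one, RingHom.mapMatrix_apply, Matrix.map_mul, Matrix.map_mul, hAσ, hAσ',
      show (X.1.map σ) = X.1ᵀ from hH X.1 X.2, transpose_add, transpose_one, transpose_mul,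
      transpose_mul, transpose_transpose, ← Matrix.mul_assoc A, hmul,
      show X.1ᵀ + X.1ᵀ = 0 from Matrix.ext fun i j => CharTwo.add_self_eq_zero _]
    simp
  refine of_addChar (α := H) (fun X => Subtype.ext (Matrix.ext fun i j => CharTwo.add_self_eq_zero _))
    (fun X => QuotientGroup.mk (⟨_, hmem X⟩ : Cfsg.SU n F q)) (fun X Y => ?_) (fun X hX => ?_) hcard
  · rw [← QuotientGroup.mk_mul]
    exact congrArg _ (Subtype.ext (Subtype.ext (hmul X.1 Y.1).symm))
  · obtain ⟨c, hc1, hc2, hc⟩ := exists_norm_one hF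
    refine Subtype.ext (hsep X.1 X.2 fun a b l hab hla => ?_)
    obtain ⟨t, ht⟩ := exists_torus hF hab c hc
    have h := congrArg (fun g : Cfsg.SU n F q =>
      ((g : Matrix.SpecialLinearGroup (Fin n) F) : Matrix (Fin n) (Fin n) F) a l)
      (Subgroup.mem_center_iff.1 ((QuotientGroup.eq_one_iff _).1 hX) t)
    set M : Matrix (Fin n) (Fin n) F := 1 + A * X.1 * Aᵀ with hM
    set N : Matrix (Fin n) (Fin n) F :=
      ((t : Matrix.SpecialLinearGroup (Fin n) F) : Matrix (Fin n) (Fin n) F) with hN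
    change (N * M) a l = (M * N) a l at h
    rw [hM] at h
    rw [ht, Matrix.diagonal_mul, Matrix.mul_diagonal, Matrix.add_apply, Matrix.one_apply_ne hla.symm,
      zero_add, if_pos rfl, if_neg hla] at h
    by_contra hne
    rw [mul_comm (c : F)] at h
    have h' := mul_left_cancel₀ hne h
    by_cases hlb : l = b
    · rw [if_pos hlb] at h'
      have e : c = c⁻¹ := Units.ext h'
      exact hc2 (by rw [sq]; nth_rewrite 2 [e]; exact mul_inv_cancel c)
    · rw [if_neg hlb] at h'
      exact hc1 (Units.ext h')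

theorem psu_three (hF : Fintype.card F = q ^ 2) (hq : 8 ≤ q) : Cfsg.PRankAtLeast 2 3 (Cfsg.PSU 3 F q) := by
  let e : F →+ Matrix (Fin 1) (Fin 1) F := AddMonoidHom.mk' (fun x => Matrix.of fun _ _ => x) fun _ _ => rfl
  refine psu_of hF (Matrix.of ![![1], ![1], ![0]]) (fun i j => ?_) ?_ ((fixF hF).map e) ?_ ?_ ?_
  · fin_cases i <;> fin_cases j <;> simp [zero_pow (show q ≠ 0 by omega)]
  · ext i j
    fin_cases i; fin_cases j
    simp [Matrix.mul_apply, Fin.sum_univ_three, CharTwo.add_self_eq_zero]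
  · rintro _ ⟨x, hx, rfl⟩
    exact Matrix.ext fun i j => hx
  · rw [Nat.card_congr ((fixF hF).equivMapOfInjective e
      (fun x y h => congrFun (congrFun h 0) 0)).symm.toEquiv]
    exact hq.trans (le_card_fixF hF)
  · intro X _ h
    have h1 := h 0 2 1 (by decide) (by decide)
    simp [Matrix.mul_apply] at h1
    ext i j
    fin_cases i; fin_cases j
    simpa [vecMul, dotProduct] using h1

theorem psu_four (hF : Fintype.card F = q ^ 2) (hn : 4 ≤ n) : Cfsg.PRankAtLeast 2 3 (Cfsg.PSU n F q) := by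
  have hq := two_le_q hF
  let a : Fin n := ⟨0, by omega⟩
  let b : Fin n := ⟨1, by omega⟩
  let c : Fin n := ⟨2, by omega⟩
  let d : Fin n := ⟨3, by omega⟩
  let A : Matrix (Fin n) (Fin 2) F := Matrix.of fun i j =>
    if i = ![a, c] j ∨ i = ![b, d] j then 1 else 0
  let e : fixF hF × fixF hF × F →+ Matrix (Fin 2) (Fin 2) F :=
    AddMonoidHom.mk' (fun p => !![(p.1 : F), p.2.2; p.2.2 ^ q, (p.2.1 : F)]) fun p r => by
      ext i j
      fin_cases i <;> fin_cases j <;> simp [pow_q_add hF]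
  have hinj : Function.Injective e := by
    rintro ⟨x, y, z⟩ ⟨x', y', z'⟩ h
    have h1 := congrFun (congrFun h 0) 0
    have h2 := congrFun (congrFun h 1) 1
    have h3 := congrFun (congrFun h 0) 1
    simp [e] at h1 h2 h3
    simp [h1, h2, h3]
  refine psu_of hF A (fun i j => ?_) ?_ e.range ?_ ?_ ?_
  · simp only [A, Matrix.of_apply]; split <;> simp [zero_pow (show q ≠ 0 by omega)]
  · ext i j
    rw [Matrix.mul_apply]
    fin_cases i <;> fin_cases j
    · rw [Fintype.sum_eq_add a b (by simp [a, b]) (fun x hx => by simp [A, hx.1, hx.2])]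
      simp [A, CharTwo.add_self_eq_zero]
    · refine Finset.sum_eq_zero fun x _ => ?_
      simp [A, a, b, c, d, Fin.ext_iff]
      intros
      exact if_neg (by omega)
    · refine Finset.sum_eq_zero fun x _ => ?_
      simp [A, a, b, c, d, Fin.ext_iff]
      intros
      exact if_neg (by omega)
    · rw [Fintype.sum_eq_add c d (by simp [c, d]) (fun x hx => by simp [A, hx.1, hx.2])]
      simp [A, CharTwo.add_self_eq_zero]
  · rintro _ ⟨p, rfl⟩
    ext i j
    fin_cases i <;> fin_cases j <;>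
      simp [e, (show (p.1 : F) ^ q = p.1 from p.1.2), (show (p.2.1 : F) ^ q = p.2.1 from p.2.1.2),
        pow_q_q hF]
  · rw [← Nat.card_congr (AddMonoidHom.ofInjective hinj).toEquiv, Nat.card_prod, Nat.card_prod,
      Nat.card_eq_fintype_card (α := F), hF]
    have h1 := le_card_fixF hF
    calc 8 ≤ q * (q * q ^ 2) := by nlinarith [Nat.mul_le_mul (Nat.mul_le_mul hq hq) (Nat.mul_le_mul hq hq)]
      _ ≤ _ := Nat.mul_le_mul h1 (Nat.mul_le_mul h1 le_rfl)
  · intro X _ h
    have h1 := h a c b (by simp [a, c]) (by simp [a, b])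
    have h2 := h c a d (by simp [a, c]) (by simp [c, d])
    have h3 := h a b c (by simp [a, b]) (by simp [a, c])
    have h4 := h c d a (by simp [c, d]) (by simp [a, c])
    simp [A, a, b, c, d, Matrix.mul_apply, Fin.sum_univ_two, Fin.ext_iff] at h1 h2 h3 h4
    ext i j
    fin_cases i <;> fin_cases j <;> assumption

end CfsgLib.KGroups.TwoRankThree
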