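import Cfsg.Agent.Lib.KGroups.TwoRankThree.Basic
import Cfsg.Agent.Lib.Chevalley.Tables
import Cfsg.Agent.Lib.Chevalley.RootGen
import Cfsg.Agent.Lib.Chevalley.Unipotent
import Cfsg.Agent.Lib.Chevalley.Words
import Cfsg.Agent.Lib.Chevalley.BN
import Cfsg.Agent.Lib.KnownB.SuzukiBasic
import Cfsg.Prelude.Def_LieTwisted

/-!
# Exceptional groups in characteristic two

Three commuting root subgroups.
-/

set_option autoImplicit false
set_option maxRecDepth 20000

namespace CfsgLib.KGroups.TwoRankThree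

open CfsgLib.Chevalley CfsgLib.Chevalley.Tbl

/-- Three positive roots whose root subgroups commute pairwise. -/
def good (T : Tbl) (r s u : ℕ) : Bool :=
  Nat.ble T.half r && Nat.blt r s && Nat.blt s u && Nat.blt u T.n &&
    (T.commT r s).isEmpty && (T.commT r u).isEmpty && (T.commT s u).isEmpty &&
    s != T.neg r && u != T.neg r && u != T.neg s

variable {T : Tbl} {F : Type*} [Field F] (hT : T.Valid) (hC : T.chkComm = true)
  {r s u : ℕ} (hg : good T r s u = true)

include hg in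
theorem good_iff : T.half ≤ r ∧ r < s ∧ s < u ∧ u < T.n ∧ T.commT r s = [] ∧ T.commT r u = [] ∧
    T.commT s u = [] ∧ s ≠ T.neg r ∧ u ≠ T.neg r ∧ u ≠ T.neg s := by
  simp only [good, Bool.and_eq_true, Nat.ble_eq, Nat.blt_eq, List.isEmpty_iff, bne_iff_ne] at hg
  tauto

/-- The product of the three root elements. -/
noncomputable def tri (T : Tbl) (r s u : ℕ) (p : F × F × F) : GL T.I F :=
  T.xU F r p.1 * T.xU F s p.2.1 * T.xU F u p.2.2

include hT hC hg in
theorem tri_commute (a b : F) :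
    Commute (T.xU F r a) (T.xU F s b) ∧ Commute (T.xU F r a) (T.xU F u b) ∧
      Commute (T.xU F s a) (T.xU F u b) := by
  obtain ⟨h1, h2, h3, h4, e1, e2, e3, n1, n2, n3⟩ := good_iff hg
  have key : ∀ {x y : ℕ}, x < T.n → y < T.n → y ≠ x → y ≠ T.neg x → T.commT x y = [] →
      ∀ t v : F, Commute (T.xU F x t) (T.xU F y v) := by
    intro x y hx hy hxy hn he t v
    show _ * _ = _ * _
    rw [comm_xU hT hC hx hy hxy hn t v, he]
    simp
  exact ⟨key (by omega) (by omega) (by omega) n1 e1 a b, key (by omega) h4 (by omega) n2 e2 a b,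
    key (by omega) h4 (by omega) n3 e3 a b⟩

theorem tri_mk (T : Tbl) (r s u : ℕ) (a b c : F) :
    tri T r s u (a, b, c) = T.xU F r a * T.xU F s b * T.xU F u c := rfl

include hT hC hg in
theorem tri_add (p p' : F × F × F) : tri T r s u (p + p') = tri T r s u p * tri T r s u p' := by
  obtain ⟨h1, h2, h3, h4, -⟩ := good_iff hg
  simp only [tri, Prod.fst_add, Prod.snd_add, ← xU_add hT (show r < T.n by omega),
    ← xU_add hT (show s < T.n by omega), ← xU_add hT h4]
  have c1 := (tri_commute hT hC hg p'.1 p.2.1).1.eq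
  have c2 := (tri_commute hT hC hg p'.1 p.2.2).2.1.eq
  have c3 := (tri_commute hT hC hg p'.2.1 p.2.2).2.2.eq
  simp only [mul_assoc]
  congr 1
  conv_lhs => rw [← mul_assoc (T.xU F r p'.1), c1, mul_assoc]
  congr 1
  conv_rhs => rw [← mul_assoc (T.xU F u p.2.2), ← c2, mul_assoc]
  congr 1
  conv_rhs => rw [← mul_assoc (T.xU F u p.2.2), ← c3, mul_assoc]

include hT hC hg in
theorem tri_inj (p : F × F × F) (h : tri T r s u p = 1) : p = 0 := by
  obtain ⟨h1, h2, h3, h4, -⟩ := good_iff hg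
  have hmem : ∀ k x, k ≤ x → x < T.n → ∀ t : F, T.xU F x t ∈ T.rootGen F (fun y => k ≤ y) :=
    fun k x hk hx t => xU_mem_rootGen (P := fun y => k ≤ y) hx hk t
  rw [tri, mul_assoc] at h
  have e1 := xU_mul_inj hT hC h1 (by omega : r < T.n)
    (t := p.1) (t' := 0) (g' := 1)
    (mul_mem (hmem (r + 1) s (by omega) (by omega) p.2.1) (hmem (r + 1) u (by omega) h4 p.2.2))
    (one_mem _) (by rw [h, xU_zero hT (by omega), one_mul])
  have e2 := xU_mul_inj hT hC (by omega : T.half ≤ s) (by omega : s < T.n)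
    (t := p.2.1) (t' := 0) (g' := 1) (hmem (s + 1) u (by omega) h4 p.2.2) (one_mem _)
    (by rw [e1.2, xU_zero hT (by omega), one_mul])
  have e3 := xU_inj hT h4 (s := p.2.2) (t := 0) (by rw [e2.2, xU_zero hT h4])
  exact Prod.ext e1.1 (Prod.ext e2.1 e3)

include hT hC hg in
/-- The criterion. -/
theorem of_tri [CharP F 2] {α : Type*} [AddCommGroup α] [Finite α] (L : α →+ F × F × F)
    (hL : Function.Injective L) (hcard : 8 ≤ Nat.card α) (G : Subgroup (GL T.datum.Idx F))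
    (hmem : ∀ a, tri T r s u (L a) ∈ G) : Cfsg.PRankAtLeast 2 3 ↥G := by
  refine of_addChar (fun a => hL ?_) (fun a => (⟨tri T r s u (L a), hmem a⟩ : G))
    (fun a b => Subtype.ext ?_) (fun a ha => ?_) hcard
  · rw [map_add, map_zero]
    exact Prod.ext (CharTwo.add_self_eq_zero _)
      (Prod.ext (CharTwo.add_self_eq_zero _) (CharTwo.add_self_eq_zero _))
  · show tri T r s u (L (a + b)) = tri T r s u (L a) * tri T r s u (L b)
    rw [map_add, tri_add hT hC hg]
  · refine hL ?_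
    rw [map_zero]
    exact tri_inj hT hC hg _ (congrArg Subtype.val ha)

include hT hC hg in
theorem chev_group [CharP F 2] [Fintype F] : Cfsg.PRankAtLeast 2 3 ↥(T.datum.group F) := by
  obtain ⟨h1, h2, h3, h4, -⟩ := good_iff hg
  refine of_tri hT hC hg (AddMonoidHom.id (F × F × F)) (fun _ _ h => h) ?_ _ fun p =>
    mul_mem (mul_mem (xU_mem_group hT (by omega) _) (xU_mem_group hT (by omega) _))
      (xU_mem_group hT h4 _)
  have h := Fintype.one_lt_card (α := F)
  rw [Nat.card_prod, Nat.card_prod, Nat.card_eq_fintype_card]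
  calc 8 = 2 * (2 * 2) := rfl
    _ ≤ _ := Nat.mul_le_mul h (Nat.mul_le_mul h h)

include hT in
theorem word_mem {S : Set (List (ℕ × F))} {w : List (ℕ × F)} (hw : w ∈ S)
    (hlt : ∀ p ∈ w, p.1 < T.n) :
    (w.map fun p => T.xU F p.1 p.2).prod ∈ T.datum.genSubgroup F S :=
  Subgroup.subset_closure ⟨w, hw, (wordMat_eq hT w hlt).symm⟩

theorem chevG2 [CharP F 2] [Fintype F] : Cfsg.PRankAtLeast 2 3 ↥(Cfsg.Lie.chevG2.group F) := by
  have h := chev_group (F := F) Data.G2.valid Data.G2.chkComm (r := 6) (s := 8) (u := 11) (by decide +kernel)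
  rw [Data.G2.datum_eq] at h
  exact h

theorem chevF4 [CharP F 2] [Fintype F] : Cfsg.PRankAtLeast 2 3 ↥(Cfsg.Lie.chevF4.group F) := by
  have h := chev_group (F := F) Data.F4.valid Data.F4.chkComm (r := 24) (s := 26) (u := 29) (by decide +kernel)
  rw [Data.F4.datum_eq] at h
  exact h

theorem chevE6 [CharP F 2] [Fintype F] : Cfsg.PRankAtLeast 2 3 ↥(Cfsg.Lie.chevE6.group F) := by
  have h := chev_group (F := F) Data.E6.valid Data.E6.chkComm (r := 36) (s := 38) (u := 41) (by decide +kernel)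
  rw [Data.E6.datum_eq] at h
  exact h

theorem chevE7 [CharP F 2] [Fintype F] : Cfsg.PRankAtLeast 2 3 ↥(Cfsg.Lie.chevE7.group F) := by
  have h := chev_group (F := F) Data.E7.valid Data.E7.chkComm (r := 63) (s := 65) (u := 68) (by decide +kernel)
  rw [Data.E7.datum_eq] at h
  exact h

theorem chevE8 [CharP F 2] [Fintype F] : Cfsg.PRankAtLeast 2 3 ↥(Cfsg.Lie.chevE8.group F) := by
  have h := chev_group (F := F) Data.E8.valid Data.E8.chkComm (r := 120) (s := 122) (u := 125) (by decide +kernel)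
  rw [Data.E8.datum_eq] at h
  exact h

/-- A power map `t ↦ t ^ (2 ^ a)` as an additive map. -/
def powHom (F : Type*) [Field F] [CharP F 2] (a : ℕ) : F →+ F :=
  AddMonoidHom.mk' (fun t => t ^ 2 ^ a) fun x y => add_pow_expChar_pow x y 2 a

theorem two_pow_of_card [CharP F 2] [Fintype F] {q e : ℕ} (he : e ≠ 0) (hK : Fintype.card F = q ^ e) :
    ∃ a, q = 2 ^ a ∧ 2 ≤ q := by
  obtain ⟨n, -, hn⟩ := FiniteField.card F 2
  obtain ⟨g, -, hg⟩ := (Nat.dvd_prime_pow Nat.prime_two).1 (hn ▸ hK ▸ dvd_pow_self q he)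
  refine ⟨g, hg, ?_⟩
  have h1 := Fintype.one_lt_card (α := F)
  by_contra hlt
  have := Nat.pow_le_pow_left (show q ≤ 1 by omega) e
  rw [one_pow] at this
  omega

theorem twistedD4 [CharP F 2] [Fintype F] {q : ℕ} (hK : Fintype.card F = q ^ 3) :
    Cfsg.PRankAtLeast 2 3 ↥(Cfsg.Lie.twistedD4 F q) := by
  obtain ⟨a, rfl, hq⟩ := two_pow_of_card three_ne_zero hK
  have hg : good Data.D4.tbl 12 13 18 = true := by decide +kernel
  let L : F →+ F × F × F := (powHom F (a * 2)).prod ((powHom F a).prod (AddMonoidHom.id F))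
  have h := of_tri (α := F) Data.D4.valid Data.D4.chkComm hg L
    (fun x y h => congrArg (fun p => p.2.2) h)
    (by
      rw [Nat.card_eq_fintype_card, hK]
      calc 8 = 2 ^ 3 := rfl
        _ ≤ _ := Nat.pow_le_pow_left hq 3)
    (Data.D4.tbl.datum.genSubgroup F (Cfsg.Lie.d4Words F (2 ^ a))) ?_
  · rw [Data.D4.datum_eq] at h
    exact h
  intro t
  have hw : [(18, t), (13, t ^ 2 ^ a), (12, t ^ (2 ^ a) ^ 2)] ∈ Cfsg.Lie.d4Words F (2 ^ a) :=
    Or.inr ⟨t, (18, 13, 12), by simp [Cfsg.Lie.d4p1, Cfsg.Lie.d4p3, Cfsg.Lie.d4p4], rfl⟩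
  have hm := word_mem Data.D4.valid hw (by simp; decide +kernel)
  have hc := tri_commute (F := F) Data.D4.valid Data.D4.chkComm hg
  simp only [List.map_cons, List.map_nil, List.prod_cons, List.prod_nil, mul_one] at hm
  rw [show t ^ (2 ^ a) ^ 2 = powHom F (a * 2) t from congrArg (t ^ ·) (pow_mul 2 a 2).symm] at hm
  have e : tri Data.D4.tbl 12 13 18 (L t) =
      Data.D4.tbl.xU F 18 t * (Data.D4.tbl.xU F 13 (t ^ 2 ^ a) * Data.D4.tbl.xU F 12 (powHom F (a * 2) t)) := by
    rw [show L t = (powHom F (a * 2) t, t ^ 2 ^ a, t) from rfl, tri_mk]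
    rw [(hc (powHom F (a * 2) t) (t ^ 2 ^ a)).1.eq]
    exact ((hc (t ^ 2 ^ a) t).2.2.mul_left (hc (powHom F (a * 2) t) t).2.1).eq
  rw [e]
  exact hm

theorem twistedE6 [CharP F 2] [Fintype F] {q : ℕ} (hK : Fintype.card F = q ^ 2) :
    Cfsg.PRankAtLeast 2 3 ↥(Cfsg.Lie.twistedE6 F q) := by
  obtain ⟨a, rfl, hq⟩ := two_pow_of_card two_ne_zero hK
  have hg : good Data.E6.tbl 36 46 56 = true := by decide +kernel
  let L : F × ZMod 2 →+ F × F × F :=
    ((powHom F a).comp (AddMonoidHom.fst F (ZMod 2))).prod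
      (((ZMod.castHom (dvd_refl 2) F).toAddMonoidHom.comp (AddMonoidHom.snd F (ZMod 2))).prod
        (AddMonoidHom.fst F (ZMod 2)))
  have h := of_tri (α := F × ZMod 2) Data.E6.valid Data.E6.chkComm hg L
    (fun x y h => Prod.ext (congrArg (fun p => p.2.2) h)
      ((ZMod.castHom (dvd_refl 2) F).injective (congrArg (fun p => p.2.1) h)))
    (by
      rw [Nat.card_prod, Nat.card_zmod, Nat.card_eq_fintype_card, hK]
      calc 8 = 2 ^ 2 * 2 := rfl
        _ ≤ _ := Nat.mul_le_mul_right 2 (Nat.pow_le_pow_left hq 2))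
    (Data.E6.tbl.datum.genSubgroup F (Cfsg.Lie.e6Words F (2 ^ a))) ?_
  · rw [Data.E6.datum_eq] at h
    exact h
  rintro ⟨t, c⟩
  set s : F := ZMod.castHom (dvd_refl 2) F c
  have hs : s ^ 2 ^ a = s := by
    obtain h | h : c = 0 ∨ c = 1 := by revert c; decide
    · simp [s, h]
    · simp [s, h]
  have hw1 : [(56, t), (36, t ^ 2 ^ a)] ∈ Cfsg.Lie.e6Words F (2 ^ a) :=
    Or.inr ⟨t, (56, 36), by simp [Cfsg.Lie.e6p1, Cfsg.Lie.e6p6], rfl⟩
  have hw2 : [(46, s)] ∈ Cfsg.Lie.e6Words F (2 ^ a) :=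
    Or.inl ⟨s, hs, 46, by simp [Cfsg.Lie.e6p2], rfl⟩
  have hm1 := word_mem Data.E6.valid hw1 (by simp; decide +kernel)
  have hm2 := word_mem Data.E6.valid hw2 (by simp; decide +kernel)
  simp only [List.map_cons, List.map_nil, List.prod_cons, List.prod_nil, mul_one] at hm1 hm2
  have hc := tri_commute (F := F) Data.E6.valid Data.E6.chkComm hg
  have e : tri Data.E6.tbl 36 46 56 (L (t, c)) =
      Data.E6.tbl.xU F 56 t * Data.E6.tbl.xU F 36 (t ^ 2 ^ a) * Data.E6.tbl.xU F 46 s := by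
    rw [show L (t, c) = (t ^ 2 ^ a, s, t) from rfl, tri_mk]
    rw [mul_assoc, (hc s t).2.2.eq, ← mul_assoc, (hc (t ^ 2 ^ a) t).2.1.eq]
  rw [e]
  exact mul_mem hm1 hm2

theorem twistedF4 [Fintype F] {m : ℕ} (hm : 1 ≤ m) (hK : Fintype.card F = 2 ^ (2 * m + 1)) :
    Cfsg.PRankAtLeast 2 3 ↥(Cfsg.Lie.twistedF4 F (2 ^ m)) := by
  have : Fact (Nat.Prime 2) := ⟨Nat.prime_two⟩
  have : CharP F 2 := charP_of_card_eq_prime_pow hK
  have hg : good Data.F4.tbl 24 33 47 = true := by decide +kernel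
  let L : F →+ F × F × F := (AddMonoidHom.id F).prod ((powHom F m).prod 0)
  have h := of_tri (α := F) Data.F4.valid Data.F4.chkComm hg L (fun x y h => congrArg Prod.fst h)
    (by
      rw [Nat.card_eq_fintype_card, hK]
      calc 8 = 2 ^ 3 := rfl
        _ ≤ _ := Nat.pow_le_pow_right two_pos (by omega))
    (Data.F4.tbl.datum.genSubgroup F (Cfsg.Lie.f4Words F (2 ^ m))) ?_
  · rw [Data.F4.datum_eq] at h
    exact h
  intro t
  have hw : [(33, t ^ 2 ^ m), (24, t)] ∈ Cfsg.Lie.f4Words F (2 ^ m) :=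
    Or.inl ⟨t, Or.inl rfl⟩
  have hm' := word_mem Data.F4.valid hw (by simp; decide +kernel)
  simp only [List.map_cons, List.map_nil, List.prod_cons, List.prod_nil, mul_one] at hm'
  have e : tri Data.F4.tbl 24 33 47 (L t) = Data.F4.tbl.xU F 33 (t ^ 2 ^ m) * Data.F4.tbl.xU F 24 t := by
    rw [show L t = (t, t ^ 2 ^ m, 0) from rfl, tri_mk]
    rw [xU_zero Data.F4.valid (by decide +kernel), mul_one,
      ((tri_commute (F := F) Data.F4.valid Data.F4.chkComm hg) t (t ^ 2 ^ m)).1.eq]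
  rw [e]
  exact hm'

open CfsgLib.KnownB.SzElem CfsgLib.KnownB.Suzuki in
theorem suzuki [Fintype F] {m : ℕ} (hm : 1 ≤ m) (hK : Fintype.card F = 2 ^ (2 * m + 1)) :
    Cfsg.PRankAtLeast 2 3 ↥(Cfsg.Lie.Sz F (2 ^ (m + 1))) := by
  have he := twist_of_card hK
  refine of_addChar (α := F) (fun b => ?_) (fun b => P he 0 b) (fun b d => ?_) (fun b hb => ?_) ?_
  · rw [← two_mul, he.two, zero_mul]
  · rw [P_mul, add_zero, mul_zero, add_zero]
  · rw [← P_zero he] at hb
    exact (P_injective he hb).2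
  · rw [Nat.card_eq_fintype_card, hK]
    calc 8 = 2 ^ 3 := rfl
      _ ≤ _ := Nat.pow_le_pow_right two_pos (by omega)

end CfsgLib.KGroups.TwoRankThree
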