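import Cfsg.Agent.Lib.KGroups.TwoRankThree.Basic
import Cfsg.Agent.Lib.Chevalley.TitsGroup.Main

/-!
# An elementary abelian subgroup of order sixteen in `²F₄(2)`

Four commuting involutions given as words in the four generators.
-/

set_option autoImplicit false
set_option maxRecDepth 20000

namespace CfsgLib.KGroups.TwoRankThree.Tits

open CfsgLib.Chevalley CfsgLib.Chevalley.TitsGroup Twist.F4

/-- The four involutions. -/
def invWord : Fin 4 → List (Fin 4) := ![[0], [3, 3], [1, 0, 2, 2, 0, 1], [2, 3, 3, 1, 3, 2, 2]]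

theorem cert_sq : ∀ i, wordC (invWord i ++ invWord i) = oneL := by decide +kernel

theorem cert_comm : ∀ i j, wordC (invWord i ++ invWord j) = wordC (invWord j ++ invWord i) := by
  decide +kernel

/-- The word of a subset. -/
def subWord (b : Bool × Bool × Bool × Bool) : List (Fin 4) :=
  (if b.1 then invWord 0 else []) ++ (if b.2.1 then invWord 1 else []) ++
    (if b.2.2.1 then invWord 2 else []) ++ (if b.2.2.2 then invWord 3 else [])

theorem cert_inj : ∀ b b', wordC (subWord b) = wordC (subWord b') → b = b' := by decide +kernel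

theorem cert_lt : ∀ b, ∀ c ∈ wordC (subWord b), c < 2 ^ 52 := by decide +kernel

theorem mat_inj {A B : List ℕ} (hA : A.length = 52) (hB : B.length = 52) (hA' : ∀ c ∈ A, c < 2 ^ 52)
    (hB' : ∀ c ∈ B, c < 2 ^ 52) (h : mat A = mat B) : A = B := by
  refine List.ext_getElem (by rw [hA, hB]) fun k h1 h2 => ?_
  obtain ⟨j, rfl⟩ : ∃ j : I4, pos j = k := by
    by_cases h4 : k < 4
    · exact ⟨Sum.inl ⟨k, rank4.symm ▸ h4⟩, rfl⟩
    · exact ⟨Sum.inr ⟨k - 4, by rw [n48]; omega⟩, by simp [pos]; omega⟩
  refine dec_inj (hA' _ (List.getElem_mem _)) (hB' _ (List.getElem_mem _)) (funext fun i => ?_)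
  have := congrFun (congrFun h i) j
  simpa [mat, List.getD_eq_getElem?_getD, h1, h2] using this

theorem coe_wT (w : List (Fin 4)) : ((wT w : TG) : GL I4 (ZMod 2)) = wordG w := by
  rw [wT, SubmonoidClass.coe_list_prod, List.map_map, wordG]
  rfl

theorem wT_append (v w : List (Fin 4)) : wT (v ++ w) = wT v * wT w := by
  rw [wT, List.map_append, List.prod_append, wT, wT]

theorem wT_eq {v w : List (Fin 4)} (h : wordC v = wordC w) : wT v = wT w :=
  Subtype.ext (Units.ext (by rw [coe_wT, coe_wT, wordG_val, wordG_val, h]))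

/-- The subgroup generated by the four involutions. -/
noncomputable def four : Subgroup TG := Subgroup.closure (Set.range fun i => wT (invWord i))

theorem four_comm : IsMulCommutative four := by
  refine Subgroup.isMulCommutative_closure ?_
  rintro _ ⟨i, rfl⟩ _ ⟨j, rfl⟩
  rw [← wT_append, ← wT_append, wT_eq (cert_comm i j)]

theorem wT_nil : wT [] = 1 := List.prod_nil

theorem gen_sq (i : Fin 4) : wT (invWord i) ^ 2 = 1 := by
  have h0 : wordC (invWord i ++ invWord i) = wordC [] := by rw [cert_sq i, wordC]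
  rw [sq, ← wT_append, wT_eq h0, wT_nil]

theorem sq_closure {G : Type*} [Group G] {S : Set G} (hc : IsMulCommutative (Subgroup.closure S))
    (h : ∀ x ∈ S, x ^ 2 = 1) : ∀ a ∈ Subgroup.closure S, a ^ 2 = 1 := by
  have hc' : ∀ x ∈ Subgroup.closure S, ∀ y ∈ Subgroup.closure S, Commute x y := fun x hx y hy =>
    congrArg Subtype.val (hc.is_comm.comm ⟨x, hx⟩ ⟨y, hy⟩)
  intro a ha
  induction ha using Subgroup.closure_induction with
  | mem x hx => exact h x hx
  | one => exact one_pow 2
  | mul x y hx hy ih1 ih2 => rw [(hc' x hx y hy).mul_pow, ih1, ih2, one_mul]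
  | inv x hx ih => rw [inv_pow, ih, inv_one]

theorem four_sq : ∀ a ∈ four, a ^ 2 = 1 :=
  sq_closure (G := TG) four_comm (Set.forall_mem_range.2 gen_sq)

theorem four_card : 16 ≤ Nat.card four := by
  have hmem : ∀ b, wT (subWord b) ∈ four := by
    intro b
    have h1 : ∀ (p : Bool) (i : Fin 4), wT (if p then invWord i else []) ∈ four := by
      intro p i
      cases p
      · simp [wT]
      · exact Subgroup.subset_closure ⟨i, rfl⟩
    simp only [subWord, wT_append]
    exact mul_mem (mul_mem (mul_mem (h1 _ _) (h1 _ _)) (h1 _ _)) (h1 _ _)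
  have hinj : Function.Injective fun b => (⟨wT (subWord b), hmem b⟩ : four) := by
    intro b b' h
    have h' := congrArg (fun x : four => ((x.1 : GL I4 (ZMod 2)) : Matrix I4 I4 (ZMod 2))) h
    simp only [coe_wT, wordG_val] at h'
    exact cert_inj _ _ (mat_inj (wordC_len _) (wordC_len _) (cert_lt b) (cert_lt b') h')
  refine le_trans ?_ (Nat.card_le_card_of_injective _ hinj)
  simp [Nat.card_eq_fintype_card]

theorem tits : Cfsg.PRankAtLeast 2 3 Cfsg.Lie.TitsGroup := by
  have h := transfer hK2 (fun _ G => Cfsg.PRankAtLeast 2 3 ↥(commutator ↥G))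
    (of_index_two (commutator TG) (dvd_of_eq (index_commutator crit)) four four_comm four_sq four_card)
  simpa using h

theorem of_isoTits {G : Type*} [Group G] (h : Cfsg.Lie.IsoTits G) : Cfsg.PRankAtLeast 2 3 G :=
  h.elim fun e => of_injective (H := Cfsg.Lie.TitsGroup) e.symm.toMonoidHom e.symm.injective tits

end CfsgLib.KGroups.TwoRankThree.Tits
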