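import Mathlib
import Cfsg.Prelude.Def_EvenType

/-!
# Elementary abelian subgroups of order eight from additive groups
-/

set_option autoImplicit false

namespace CfsgLib.KGroups.TwoRankThree

universe u v

variable {G : Type u} [Group G]

/-- An additive group of exponent two with an injective homomorphism into `G`. -/
theorem of_addChar {α : Type v} [AddCommGroup α] [Finite α] (h2 : ∀ a : α, a + a = 0)
    (φ : α → G) (hadd : ∀ a b, φ (a + b) = φ a * φ b) (hinj : ∀ a, φ a = 1 → a = 0)
    (hcard : 8 ≤ Nat.card α) : Cfsg.PRankAtLeast 2 3 G := by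
  let f : Multiplicative α →* G := MonoidHom.mk' (fun a => φ a.toAdd) fun a b => hadd _ _
  have hf : Function.Injective f :=
    (injective_iff_map_eq_one f).2 fun a ha => Multiplicative.toAdd.injective (hinj _ ha)
  refine ⟨f.range, inferInstance, ?_, ?_⟩
  · rintro _ ⟨a, rfl⟩
    rw [← map_pow, sq, show a * a = 1 from h2 a.toAdd, map_one]
  · rw [← Nat.card_congr (MonoidHom.ofInjective hf).toEquiv]
    exact hcard

theorem of_injective {H : Type v} [Group H] (f : H →* G) (hf : Function.Injective f)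
    (h : Cfsg.PRankAtLeast 2 3 H) : Cfsg.PRankAtLeast 2 3 G := by
  obtain ⟨A, hA, h2, hc⟩ := h
  refine ⟨A.map f, inferInstance, ?_, ?_⟩
  · rintro _ ⟨a, ha, rfl⟩
    rw [← map_pow, h2 a ha, map_one]
  · rwa [Subgroup.card_map_of_injective hf]

theorem of_equiv {H : Type v} [Group H] (e : H ≃* G) (h : Cfsg.PRankAtLeast 2 3 H) :
    Cfsg.PRankAtLeast 2 3 G :=
  of_injective e.toMonoidHom e.injective h

/-- Rank four in a group gives rank three in a subgroup of index at most two. -/
theorem of_index_two (N : Subgroup G) [N.Normal] (hN : N.index ∣ 2)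
    (A : Subgroup G) (hA : IsMulCommutative A) (h2 : ∀ a ∈ A, a ^ 2 = 1) (hc : 16 ≤ Nat.card A) :
    Cfsg.PRankAtLeast 2 3 N := by
  refine ⟨A.subgroupOf N, ⟨⟨fun x y => ?_⟩⟩, fun a ha => ?_, ?_⟩
  · refine Subtype.ext (Subtype.ext ?_)
    simpa using congrArg Subtype.val (hA.is_comm.comm ⟨_, x.2⟩ ⟨_, y.2⟩)
  · exact Subtype.ext (by simpa using h2 _ ha)
  · have h1 := Subgroup.relIndex_dvd_index_of_normal N A
    have h3 : N.relIndex A ≤ 2 := Nat.le_of_dvd two_pos (h1.trans hN)
    have h4 := Subgroup.relIndex_mul_relIndex ⊥ (N ⊓ A) A bot_le inf_le_right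
    rw [Subgroup.relIndex_bot_left, Subgroup.relIndex_bot_left, Subgroup.inf_relIndex_right] at h4
    have e : Nat.card (A.subgroupOf N) = Nat.card ↥(N ⊓ A) := by
      rw [← Subgroup.inf_subgroupOf_left]
      exact Nat.card_congr (Subgroup.subgroupOfEquivOfLe inf_le_left).toEquiv
    rw [e]
    by_contra h
    push Not at h
    generalize Nat.card ↥(N ⊓ A) = c at h h4
    have := Nat.mul_le_mul (Nat.le_of_lt_succ h) h3
    norm_num at this
    omega

end CfsgLib.KGroups.TwoRankThree
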